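import Groth.Agent.Lib.MagnetAff25.Orb
import Mathlib.Algebra.Polynomial.Eval.Coeff
import Mathlib.RingTheory.Localization.FractionRing
import Mathlib.RingTheory.Localization.Away.Basic
import Mathlib.RingTheory.Spectrum.Prime.Topology

/-! # Stable affine charts for actions of the multiplicative affine line -/

set_option autoImplicit false
set_option backward.isDefEq.respectTransparency false
set_option backward.isDefEq.respectTransparency.types false

universe u

open CategoryTheory MonoidalCategory CartesianMonoidalCategory MonObj AlgebraicGeometry Opposite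

noncomputable section

namespace GrothLib.MagnetAff

open Magnet MagnetPts

variable {S : Scheme.{u}} {X Y : Over S} (a : MonAct (AMonS S ℕ) X)

/-- A stable affine chart, with its coaction. -/
structure Chart where
  /-- The ring. -/
  A : Type u
  [ring : CommRing A]
  /-- The inclusion. -/
  inc : Spec (CommRingCat.of A) ⟶ X.left
  [isOpen : IsOpenImmersion inc]
  /-- The coaction. -/
  δ : A →+* Polynomial A
  hδ : Spec.map (CommRingCat.ofHom δ) ≫ inc = orb a (Spec.map (CommRingCat.ofHom Polynomial.C) ≫ inc) Polynomial.X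

attribute [instance] Chart.ring Chart.isOpen

namespace Chart

variable {a} (U : Chart a)

theorem specMap_comp {R R' R'' : Type u} [CommRing R] [CommRing R'] [CommRing R''] (φ : R →+* R') (ψ : R' →+* R'')
    {Z : Scheme.{u}} (g : Spec (CommRingCat.of R) ⟶ Z) :
    Spec.map (CommRingCat.ofHom ψ) ≫ Spec.map (CommRingCat.ofHom φ) ≫ g = Spec.map (CommRingCat.ofHom (ψ.comp φ)) ≫ g := by
  rw [← Spec.map_comp_assoc]
  rfl

theorem specMap_inj {R R' : Type u} [CommRing R] [CommRing R'] {φ ψ : R →+* R'}
    {Z : Scheme.{u}} (g : Spec (CommRingCat.of R) ⟶ Z) [Mono g]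
    (h : Spec.map (CommRingCat.ofHom φ) ≫ g = Spec.map (CommRingCat.ofHom ψ) ≫ g) : φ = ψ := by
  rw [cancel_mono] at h
  exact congrArg CommRingCat.Hom.hom (Spec.map_injective h)

theorem orb_pt {E : Type u} [CommRing E] (φ : U.A →+* E) (c : E) :
    orb a (Spec.map (CommRingCat.ofHom φ) ≫ U.inc) c =
      Spec.map (CommRingCat.ofHom ((Polynomial.eval₂RingHom φ c).comp U.δ)) ≫ U.inc := by
  rw [← specMap_comp, U.hδ, comp_orb, specMap_comp]
  congr 1
  · congr 3
    exact RingHom.ext fun x => (Polynomial.eval₂_C φ c).symm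
  · exact (Polynomial.eval₂_X φ c).symm

theorem δ_one (x : U.A) : (U.δ x).eval 1 = x := by
  have h := U.orb_pt (RingHom.id U.A) 1
  rw [orb_one] at h
  have := specMap_inj U.inc h
  exact (RingHom.congr_fun this x).symm

theorem coeff_scale (p : Polynomial U.A) (n : ℕ) :
    (Polynomial.eval₂ ((Polynomial.C).comp Polynomial.C) (Polynomial.X * Polynomial.C Polynomial.X) p :
      Polynomial (Polynomial U.A)).coeff n = Polynomial.monomial n (p.coeff n) := by
  induction p using Polynomial.induction_on' with
  | add p q hp hq => rw [Polynomial.eval₂_add, Polynomial.coeff_add, Polynomial.coeff_add, hp, hq, map_add]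
  | monomial m c =>
    rw [Polynomial.eval₂_monomial, mul_pow, ← map_pow, Polynomial.coeff_monomial]
    simp only [RingHom.comp_apply]
    rw [show (Polynomial.C (Polynomial.C c) : Polynomial (Polynomial U.A)) *
        (Polynomial.X ^ m * Polynomial.C (Polynomial.X ^ m)) =
        Polynomial.C (Polynomial.C c * Polynomial.X ^ m) * Polynomial.X ^ m by rw [map_mul]; ring,
      Polynomial.coeff_C_mul, Polynomial.coeff_X_pow, Polynomial.C_mul_X_pow_eq_monomial]
    by_cases h : m = n
    · subst h; simp
    · simp [h, Ne.symm h]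

theorem δ_coeff (x : U.A) (n : ℕ) : U.δ ((U.δ x).coeff n) = Polynomial.monomial n ((U.δ x).coeff n) := by
  let cc : U.A →+* Polynomial (Polynomial U.A) := Polynomial.C.comp Polynomial.C
  have h1 : Polynomial.eval₂RingHom cc (Polynomial.C Polynomial.X) = Polynomial.C := by
    refine Polynomial.ringHom_ext (fun b => ?_) ?_
    · exact Polynomial.eval₂_C _ _
    · exact Polynomial.eval₂_X _ _
  have h := orb_orb a (Spec.map (CommRingCat.ofHom cc) ≫ U.inc) Polynomial.X (Polynomial.C Polynomial.X)
  rw [U.orb_pt, U.orb_pt, U.orb_pt, h1] at h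
  have h2 := RingHom.congr_fun (specMap_inj U.inc h) x
  change Polynomial.eval₂ (Polynomial.C.comp U.δ) Polynomial.X (U.δ x) = Polynomial.eval₂ cc _ (U.δ x) at h2
  have h3 := congrArg (fun q => Polynomial.coeff q n) h2
  rw [show Polynomial.eval₂ (Polynomial.C.comp U.δ) Polynomial.X (U.δ x) = (U.δ x).map U.δ from rfl] at h3
  rw [coeff_scale, Polynomial.coeff_map] at h3
  exact h3

/-- The projection to degree zero. -/
def π₀ : U.A →+* U.A := Polynomial.constantCoeff.comp U.δ

theorem π₀_apply (x : U.A) : U.π₀ x = (U.δ x).coeff 0 := rfl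

theorem δ_π₀ (x : U.A) : U.δ (U.π₀ x) = Polynomial.C (U.π₀ x) := by
  rw [π₀_apply, δ_coeff, Polynomial.monomial_zero_left]

theorem π₀_π₀ (x : U.A) : U.π₀ (U.π₀ x) = U.π₀ x := by
  conv_lhs => rw [π₀_apply, δ_π₀, Polynomial.coeff_C_zero]

theorem π₀_comp_π₀ : U.π₀.comp U.π₀ = U.π₀ := RingHom.ext U.π₀_π₀

theorem orb_pt_zero {E : Type u} [CommRing E] (φ : U.A →+* E) :
    orb a (Spec.map (CommRingCat.ofHom φ) ≫ U.inc) 0 = Spec.map (CommRingCat.ofHom (φ.comp U.π₀)) ≫ U.inc := by
  rw [U.orb_pt]
  have : (Polynomial.eval₂RingHom φ 0).comp U.δ = φ.comp U.π₀ := RingHom.ext fun x => by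
    change Polynomial.eval₂ φ 0 (U.δ x) = φ ((U.δ x).coeff 0)
    rw [Polynomial.eval₂_at_zero]
  rw [this]

theorem isFix_pt_iff {E : Type u} [CommRing E] (φ : U.A →+* E) :
    IsFix a (Spec.map (CommRingCat.ofHom φ) ≫ U.inc) ↔ φ.comp U.π₀ = φ := by
  rw [IsFix, U.orb_pt_zero]
  exact ⟨fun h => specMap_inj U.inc h, fun h => by rw [h]⟩

/-- Stability: a point lies in the chart as soon as its limit does. -/
theorem mem_range_of_orb_zero {K : Type u} [Field K] (x : Spec (CommRingCat.of K) ⟶ X.left)
    (w : PrimeSpectrum K) (h : (orb a x 0).base w ∈ Set.range U.inc.base) : x.base w ∈ Set.range U.inc.base := by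
  let C' : K →+* Polynomial K := Polynomial.C
  let L : Spec (CommRingCat.of (Polynomial K)) ⟶ X.left :=
    orb a (Spec.map (CommRingCat.ofHom C') ≫ x) Polynomial.X
  let e0 : Polynomial K →+* K := Polynomial.evalRingHom 0
  have hL : Spec.map (CommRingCat.ofHom e0) ≫ L = orb a x 0 := by
    rw [comp_orb, specMap_comp]
    congr 1
    · rw [show e0.comp C' = RingHom.id K from RingHom.ext fun r => Polynomial.eval_C]
      rw [show CommRingCat.ofHom (RingHom.id K) = 𝟙 _ from rfl, Spec.map_id, Category.id_comp]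
    · exact Polynomial.eval_X
  let q₀ : PrimeSpectrum (Polynomial K) := PrimeSpectrum.comap e0 w
  have hq₀ : L.base q₀ ∈ Set.range U.inc.base := by
    rw [← hL] at h
    exact h
  let F := FractionRing (Polynomial K)
  let alg : Polynomial K →+* F := algebraMap _ F
  have hrange : Set.range (Spec.map (CommRingCat.ofHom alg) ≫ L).base ⊆ Set.range U.inc.base := by
    rintro _ ⟨v, rfl⟩
    have hv : (PrimeSpectrum.comap alg v) ⤳ q₀ := by
      rw [← PrimeSpectrum.le_iff_specializes]
      intro r hr
      have hbot : v.asIdeal = ⊥ := Ideal.eq_bot_of_prime v.asIdeal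
      have hr' : alg r = 0 := by
        have : alg r ∈ v.asIdeal := hr
        rwa [hbot] at this
      rw [IsFractionRing.to_map_eq_zero_iff] at hr'
      rw [hr']
      exact q₀.asIdeal.zero_mem
    exact (hv.map L.base.hom.continuous).mem_open U.inc.isOpenEmbedding.isOpen_range hq₀
  obtain ⟨φ, hφ⟩ : ∃ φ : U.A →+* F, Spec.map (CommRingCat.ofHom φ) ≫ U.inc = Spec.map (CommRingCat.ofHom alg) ≫ L := by
    obtain ⟨φ, hφ⟩ := Spec.map_surjective (IsOpenImmersion.lift U.inc _ hrange)
    refine ⟨φ.hom, ?_⟩
    rw [CommRingCat.ofHom_hom, hφ, IsOpenImmersion.lift_fac]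
  have ht : alg Polynomial.X ≠ 0 := fun h => Polynomial.X_ne_zero ((IsFractionRing.to_map_eq_zero_iff).1 h)
  have hx : Spec.map (CommRingCat.ofHom (alg.comp C')) ≫ x =
      Spec.map (CommRingCat.ofHom ((Polynomial.eval₂RingHom φ (alg Polynomial.X)⁻¹).comp U.δ)) ≫ U.inc := by
    rw [← U.orb_pt, hφ]
    conv_rhs => rw [comp_orb, orb_orb, specMap_comp, inv_mul_cancel₀ ht, orb_one]
  obtain ⟨v⟩ : Nonempty (PrimeSpectrum F) := inferInstance
  refine ⟨Spec.map (CommRingCat.ofHom ((Polynomial.eval₂RingHom φ (alg Polynomial.X)⁻¹).comp U.δ)) v, ?_⟩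
  have := congrArg (fun g : Spec (CommRingCat.of F) ⟶ X.left => g.base v) hx
  refine this.symm.trans ?_
  change x.base _ = x.base w
  congr 1
  exact Subsingleton.elim (α := PrimeSpectrum K) _ _

/-- The coaction on a localisation at an invariant function. -/
def awayδ (h : U.A) (hh : U.π₀ h = h) : Localization.Away h →+* Polynomial (Localization.Away h) :=
  IsLocalization.Away.lift h
    (g := (Polynomial.mapRingHom (algebraMap U.A (Localization.Away h))).comp U.δ) (by
      have : U.δ h = Polynomial.C h := by rw [← hh, U.δ_π₀]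
      rw [RingHom.comp_apply, this, Polynomial.coe_mapRingHom, Polynomial.map_C]
      exact (IsLocalization.Away.algebraMap_isUnit h).map Polynomial.C)

theorem awayδ_algebraMap (h : U.A) (hh : U.π₀ h = h) (x : U.A) :
    U.awayδ h hh (algebraMap U.A (Localization.Away h) x) = Polynomial.map (algebraMap U.A (Localization.Away h)) (U.δ x) := by
  unfold awayδ
  exact IsLocalization.Away.lift_eq _ _ _

/-- The basic open chart of an invariant function. -/
def away (h : U.A) (hh : U.π₀ h = h) : Chart a where
  A := Localization.Away h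
  inc := Spec.map (CommRingCat.ofHom (algebraMap U.A (Localization.Away h))) ≫ U.inc
  isOpen := by
    haveI : IsOpenImmersion (Spec.map (CommRingCat.ofHom (algebraMap U.A (Localization.Away h)))) :=
      IsOpenImmersion.of_isLocalization h
    exact inferInstance
  δ := U.awayδ h hh
  hδ := by
    rw [specMap_comp]
    unfold awayδ
    rw [IsLocalization.Away.lift_comp, specMap_comp, U.orb_pt]
    rfl

theorem away_π₀_algebraMap (h : U.A) (hh : U.π₀ h = h) (x : U.A) :
    (U.away h hh).π₀ (algebraMap U.A (Localization.Away h) x) = algebraMap U.A (Localization.Away h) (U.π₀ x) := by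
  have key : (U.away h hh).δ (algebraMap U.A (Localization.Away h) x) =
      (Polynomial.map (algebraMap U.A (Localization.Away h)) (U.δ x) : Polynomial (Localization.Away h)) :=
    U.awayδ_algebraMap h hh x
  change Polynomial.coeff (R := Localization.Away h) ((U.away h hh).δ (algebraMap U.A (Localization.Away h) x)) 0 = _
  erw [key]
  rw [Polynomial.coeff_map]
  rfl

theorem range_away (h : U.A) (hh : U.π₀ h = h) :
    Set.range (U.away h hh).inc.base = U.inc.base '' (PrimeSpectrum.basicOpen h : Set (PrimeSpectrum U.A)) := by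
  change Set.range (U.inc.base ∘ (Spec.map (CommRingCat.ofHom (algebraMap U.A (Localization.Away h)))).base) = _
  rw [Set.range_comp]
  congr 1
  exact PrimeSpectrum.localization_away_comap_range (Localization.Away h) h

end Chart

/-- Stable affine opens give charts. -/
theorem exists_chart (V : X.left.Opens) (hV : IsAffineOpen V)
    (hst : (CartesianMonoidalCategory.snd (AMonS S ℕ) X).left ⁻¹ᵁ V ≤ a.act.left ⁻¹ᵁ V) :
    ∃ U : Chart a, Set.range U.inc.base = (V : Set X.left) := by
  let A := Γ(X.left, V)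
  let inc : Spec (CommRingCat.of A) ⟶ X.left := hV.fromSpec
  haveI : IsOpenImmersion inc := hV.isOpenImmersion_fromSpec
  let L : Spec (CommRingCat.of (Polynomial A)) ⟶ X.left :=
    orb a (Spec.map (CommRingCat.ofHom (Polynomial.C : A →+* Polynomial A)) ≫ inc) Polynomial.X
  have hL : Set.range L.base ⊆ Set.range inc.base := by
    rintro _ ⟨w, rfl⟩
    rw [show Set.range inc.base = (V : Set X.left) from hV.range_fromSpec]
    let lf := lift (amsPoint ℕ ((Spec.map (CommRingCat.ofHom (Polynomial.C : A →+* Polynomial A)) ≫ inc) ≫ X.hom)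
      (chN Polynomial.X)) (Over.homMk (Spec.map (CommRingCat.ofHom (Polynomial.C : A →+* Polynomial A)) ≫ inc) rfl :
        Over.mk _ ⟶ X)
    refine hst (show (snd (AMonS S ℕ) X).left.base (lf.left.base w) ∈ V from ?_)
    have : (lf ≫ snd (AMonS S ℕ) X).left.base w ∈ V := by
      rw [lift_snd]
      exact hV.range_fromSpec.le ⟨_, rfl⟩
    exact this
  obtain ⟨δ, hδ⟩ := Spec.map_surjective (IsOpenImmersion.lift inc L hL)
  exact ⟨⟨A, inc, δ.hom, by rw [CommRingCat.ofHom_hom, hδ, IsOpenImmersion.lift_fac]⟩, hV.range_fromSpec⟩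

end GrothLib.MagnetAff
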