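import Groth.Agent.Lib.MagnetAff25.Chart
import Mathlib.AlgebraicGeometry.Morphisms.Etale
import Mathlib.AlgebraicGeometry.Morphisms.Flat
import Mathlib.RingTheory.Flat.EquationalCriterion
import Mathlib.Algebra.Polynomial.Coeff

/-! # An equivariant map inducing an isomorphism of fixed loci, étale at them, is an isomorphism on charts -/

set_option autoImplicit false
set_option backward.isDefEq.respectTransparency false
set_option backward.isDefEq.respectTransparency.types false

universe u

open CategoryTheory MonoidalCategory CartesianMonoidalCategory AlgebraicGeometry Opposite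

noncomputable section

namespace GrothLib.MagnetAff

open Magnet MagnetPts

variable {S : Scheme.{u}} {X Y : Over S} {a : MonAct (AMonS S ℕ) X} {b : MonAct (AMonS S ℕ) Y} {f : X ⟶ Y}

/-- The hypotheses on fixed loci, on affine points. -/
structure FixedIso (a : MonAct (AMonS S ℕ) X) (b : MonAct (AMonS S ℕ) Y) (f : X ⟶ Y) (V : X.left.Opens) : Prop where
  equivariant : MonAct.IsEquivariant a b f
  inj : ∀ {E : Type u} [CommRing E] (x x' : Spec (CommRingCat.of E) ⟶ X.left),
    IsFix a x → IsFix a x' → x ≫ f.left = x' ≫ f.left → x = x'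
  surj : ∀ {E : Type u} [CommRing E] (y : Spec (CommRingCat.of E) ⟶ Y.left),
    IsFix b y → ∃ x : Spec (CommRingCat.of E) ⟶ X.left, IsFix a x ∧ x ≫ f.left = y
  refl : ∀ {E : Type u} [CommRing E] (x : Spec (CommRingCat.of E) ⟶ X.left), IsFix b (x ≫ f.left) → IsFix a x
  mem : ∀ {E : Type u} [CommRing E] (x : Spec (CommRingCat.of E) ⟶ X.left) (p : PrimeSpectrum E),
    IsFix a x → x.base p ∈ V

variable (U : Chart a) (W : Chart b) (φ : W.A →+* U.A)
variable (hφ : U.inc ≫ f.left = Spec.map (CommRingCat.ofHom φ) ≫ W.inc)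

include hφ in
theorem δ_comm (hf : MonAct.IsEquivariant a b f) (x : W.A) : U.δ (φ x) = (W.δ x).map φ := by
  have h := orb_comp_equivariant a hf (Spec.map (CommRingCat.ofHom (Polynomial.C : U.A →+* Polynomial U.A)) ≫ U.inc)
    Polynomial.X
  rw [← U.hδ, Category.assoc, Category.assoc, hφ, Chart.specMap_comp, Chart.specMap_comp, W.orb_pt] at h
  exact RingHom.congr_fun (Chart.specMap_inj W.inc h) x

include hφ in
theorem π₀_comm (hf : MonAct.IsEquivariant a b f) (x : W.A) : U.π₀ (φ x) = φ (W.π₀ x) := by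
  rw [Chart.π₀_apply, δ_comm U W φ hφ hf, Polynomial.coeff_map]
  rfl

include hφ in
theorem π₀_comp_comm (hf : MonAct.IsEquivariant a b f) : U.π₀.comp φ = φ.comp W.π₀ :=
  RingHom.ext (π₀_comm U W φ hφ hf)

theorem eq_sum_coeff (x : U.A) : x = ∑ n ∈ (U.δ x).support, (U.δ x).coeff n := by
  conv_lhs => rw [← U.δ_one x, Polynomial.eval_eq_sum, Polynomial.sum_def]
  simp

variable {V : X.left.Opens} [Etale (V.ι ≫ f.left)] (H : FixedIso a b f V)
variable (ψ : U.A →+* W.A) (hψ : ψ.comp U.π₀ = ψ) (hψφ : ψ.comp φ = W.π₀)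

include hφ H hψ hψφ in
theorem φψ_eq : φ.comp ψ = U.π₀ := by
  have h1 : IsFix a (Spec.map (CommRingCat.ofHom (φ.comp ψ)) ≫ U.inc) :=
    (U.isFix_pt_iff _).2 (by rw [RingHom.comp_assoc, hψ])
  have h2 : IsFix a (Spec.map (CommRingCat.ofHom U.π₀) ≫ U.inc) := (U.isFix_pt_iff _).2 U.π₀_comp_π₀
  refine Chart.specMap_inj U.inc (H.inj _ _ h1 h2 ?_)
  rw [Category.assoc, Category.assoc, hφ, Chart.specMap_comp, Chart.specMap_comp, RingHom.comp_assoc, hψφ,
    π₀_comp_comm U W φ hφ H.equivariant]

include hφ H in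
theorem ker_le_map : RingHom.ker U.π₀ ≤ (RingHom.ker W.π₀).map φ := by
  intro x hx
  let J := (RingHom.ker W.π₀).map φ
  let q : U.A →+* U.A ⧸ J := Ideal.Quotient.mk J
  have hqφ : (q.comp φ).comp W.π₀ = q.comp φ := RingHom.ext fun y => by
    change q (φ (W.π₀ y)) = q (φ y)
    rw [← sub_eq_zero, ← map_sub, ← map_sub, Ideal.Quotient.eq_zero_iff_mem]
    exact Ideal.mem_map_of_mem φ (by rw [RingHom.mem_ker, map_sub, W.π₀_π₀, sub_self])
  have hfix : IsFix a (Spec.map (CommRingCat.ofHom q) ≫ U.inc) := by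
    apply H.refl
    rw [Category.assoc, hφ, Chart.specMap_comp]
    exact (W.isFix_pt_iff _).2 hqφ
  have h := RingHom.congr_fun ((U.isFix_pt_iff _).1 hfix) x
  rw [RingHom.comp_apply, RingHom.mem_ker.1 hx, map_zero] at h
  exact Ideal.Quotient.eq_zero_iff_mem.1 h.symm

include hφ H hψ hψφ in
theorem surjective_φ : Function.Surjective φ := by
  have key : ∀ (n : ℕ) (x : U.A), (U.δ x).coeff n ∈ φ.range := by
    intro n
    induction n using Nat.strong_induction_on with
    | _ n ih =>
      intro x
      obtain rfl | hn := Nat.eq_zero_or_pos n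
      · exact ⟨ψ x, RingHom.congr_fun (φψ_eq U W φ hφ H ψ hψ hψφ) x⟩
      · set y := (U.δ x).coeff n with hy
        have hy0 : y ∈ RingHom.ker U.π₀ := by
          rw [RingHom.mem_ker, Chart.π₀_apply, hy, U.δ_coeff, Polynomial.coeff_monomial, if_neg hn.ne']
        have hmem := ker_le_map U W φ hφ H hy0
        have hgoal : ∀ z ∈ (RingHom.ker W.π₀).map φ, (U.δ z).coeff n ∈ φ.range := by
          intro z hz
          rw [Ideal.map] at hz
          induction hz using Submodule.span_induction with
          | mem z hz =>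
            obtain ⟨c, -, rfl⟩ := hz
            exact ⟨(W.δ c).coeff n, by rw [δ_comm U W φ hφ H.equivariant, Polynomial.coeff_map]⟩
          | zero => simp
          | add z z' _ _ hz hz' => rw [map_add, Polynomial.coeff_add]; exact add_mem hz hz'
          | smul r z hzJ hz =>
            have h0 : (U.δ z).coeff 0 = 0 := by
              have hle : (RingHom.ker W.π₀).map φ ≤ RingHom.ker U.π₀ := Ideal.map_le_iff_le_comap.2 fun c hc => by
                rw [Ideal.mem_comap, RingHom.mem_ker, π₀_comm U W φ hφ H.equivariant, RingHom.mem_ker.1 hc, map_zero]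
              have := hle hzJ
              rwa [RingHom.mem_ker] at this
            rw [smul_eq_mul, map_mul, Polynomial.coeff_mul]
            refine sum_mem fun ij hij => ?_
            rw [Finset.mem_antidiagonal] at hij
            obtain hj | hj := Nat.eq_zero_or_pos ij.2
            · rw [hj, h0, mul_zero]
              exact zero_mem _
            · refine mul_mem (ih ij.1 (by omega) r) ?_
              by_cases hjn : ij.2 = n
              · rw [hjn]; exact hz
              · exact ih ij.2 (by omega) z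
        have := hgoal y hmem
        rwa [hy, U.δ_coeff, Polynomial.coeff_monomial, if_pos rfl] at this
  intro x
  rw [← RingHom.mem_range, eq_sum_coeff U x]
  exact sum_mem fun n _ => key n x

include hφ H hψ hψφ in
theorem injective_φ : Function.Injective φ := by
  rw [injective_iff_map_eq_zero]
  intro x hx
  rw [eq_sum_coeff W x]
  refine Finset.sum_eq_zero fun n _ => ?_
  set c := (W.δ x).coeff n with hc
  have hφc : φ c = 0 := by
    rw [hc, ← Polynomial.coeff_map, ← δ_comm U W φ hφ H.equivariant, hx, map_zero, Polynomial.coeff_zero]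
  let Ann : Ideal W.A := LinearMap.ker (LinearMap.mulRight W.A c)
  have htop : Ann ⊔ RingHom.ker W.π₀ = ⊤ := by
    by_contra hne
    obtain ⟨p, hp, hle⟩ := Ideal.exists_le_maximal _ hne
    have hpπ : p.comap W.π₀ = p := by
      ext r
      have hr : W.π₀ r - r ∈ p := hle (Ideal.mem_sup_right (by rw [RingHom.mem_ker, map_sub, W.π₀_π₀, sub_self]))
      rw [Ideal.mem_comap]
      exact ⟨fun h => by simpa using p.sub_mem h hr, fun h => by simpa using p.add_mem hr h⟩
    let pp : PrimeSpectrum W.A := ⟨p, hp.isPrime⟩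
    let P : PrimeSpectrum U.A := PrimeSpectrum.comap ψ pp
    have hP : P.asIdeal.comap φ = p := by
      change (p.comap ψ).comap φ = p
      rw [Ideal.comap_comap, hψφ, hpπ]
    have hPV : U.inc.base P ∈ V :=
      H.mem (Spec.map (CommRingCat.ofHom ψ) ≫ U.inc) pp ((U.isFix_pt_iff _).2 hψ)
    obtain ⟨_, ⟨_, ⟨v, rfl⟩, rfl⟩, hv, hvV⟩ :=
      PrimeSpectrum.isBasis_basic_opens.exists_subset_of_mem_open hPV (U.inc ⁻¹ᵁ V).2
    let Av := Localization.Away v
    let loc : U.A →+* Av := algebraMap _ _
    have : IsOpenImmersion (Spec.map (CommRingCat.ofHom loc)) := IsOpenImmersion.of_isLocalization v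
    have hr : Set.range (Spec.map (CommRingCat.ofHom loc) ≫ U.inc).base ⊆ Set.range V.ι.base := by
      rintro _ ⟨z, rfl⟩
      rw [V.range_ι]
      refine hvV ?_
      have hz : Spec.map (CommRingCat.ofHom loc) z ∈ Set.range (PrimeSpectrum.comap loc) := ⟨z, rfl⟩
      rw [PrimeSpectrum.localization_away_comap_range Av v] at hz
      exact hz
    let g := IsOpenImmersion.lift V.ι _ hr
    have hg : g ≫ V.ι = Spec.map (CommRingCat.ofHom loc) ≫ U.inc := IsOpenImmersion.lift_fac _ _ _
    have : IsOpenImmersion (g ≫ V.ι) := by rw [hg]; infer_instance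
    have : IsOpenImmersion g := IsOpenImmersion.of_comp g V.ι
    have hcomp : Spec.map (CommRingCat.ofHom (loc.comp φ)) ≫ W.inc = g ≫ V.ι ≫ f.left := by
      rw [reassoc_of% hg, hφ, Chart.specMap_comp]
    have hfl : Flat (Spec.map (CommRingCat.ofHom (loc.comp φ)) ≫ W.inc) := by
      rw [hcomp]
      infer_instance
    have hsq : IsPullback (𝟙 _) (Spec.map (CommRingCat.ofHom (loc.comp φ)))
        (Spec.map (CommRingCat.ofHom (loc.comp φ)) ≫ W.inc) W.inc :=
      IsPullback.of_isLimit' ⟨Category.id_comp _⟩ (Limits.PullbackCone.IsLimit.mk _ (fun c => c.fst)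
        (fun c => Category.comp_id _)
        (fun c => by rw [← cancel_mono W.inc, Category.assoc]; exact c.condition)
        (fun c m h₁ _ => by rw [← h₁, Category.comp_id]))
    have hfl' : Flat (Spec.map (CommRingCat.ofHom (loc.comp φ))) := MorphismProperty.of_isPullback (P := @Flat) hsq hfl
    let : Algebra W.A Av := (loc.comp φ).toAlgebra
    have : Module.Flat W.A Av := (HasRingHomProperty.Spec_iff (P := @Flat)).1 hfl'
    have hrel : ∑ i : Fin 1, (fun _ => c) i • (fun _ => (1 : Av)) i = 0 := by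
      rw [Fin.sum_univ_one, Algebra.smul_def]
      change loc (φ c) * 1 = 0
      rw [hφc, map_zero, zero_mul]
    obtain ⟨k, r, y, hy, hr0⟩ := Module.Flat.isTrivialRelation_of_sum_smul_eq_zero hrel
    obtain ⟨Q, hQ⟩ : P ∈ Set.range (PrimeSpectrum.comap loc) := by
      rw [PrimeSpectrum.localization_away_comap_range Av v]
      exact hv
    have h1 : (1 : Av) ∈ Q.asIdeal := by
      have h1 := hy 0
      simp only at h1
      rw [h1]
      refine Ideal.sum_mem _ fun j _ => ?_
      rw [Algebra.smul_def]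
      refine Ideal.mul_mem_right _ _ ?_
      change φ (r 0 j) ∈ (PrimeSpectrum.comap loc Q).asIdeal
      rw [hQ, ← Ideal.mem_comap, hP]
      refine hle (Ideal.mem_sup_left ?_)
      have := hr0 j
      rw [Fin.sum_univ_one] at this
      change r 0 j * c = 0
      rw [mul_comm]
      exact this
    exact Q.isPrime.ne_top (Ideal.eq_top_iff_one _ |>.2 h1)
  obtain ⟨r, hr, s, hs, hrs⟩ := Submodule.mem_sup.1 (htop ▸ Submodule.mem_top (x := (1 : W.A)))
  have hr0 : (W.δ r).coeff 0 = 1 := by
    rw [← Chart.π₀_apply]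
    have := congrArg W.π₀ hrs
    rwa [map_add, RingHom.mem_ker.1 hs, add_zero, map_one] at this
  have hrc : r * c = 0 := hr
  have := congrArg (fun q => Polynomial.coeff q n) (congrArg W.δ hrc)
  rw [map_mul, W.δ_coeff, map_zero, Polynomial.coeff_zero] at this
  rw [← Polynomial.C_mul_X_pow_eq_monomial, ← mul_assoc] at this
  simpa [hr0, Polynomial.coeff_mul_X_pow', Polynomial.coeff_mul_C] using this

include hφ H hψ hψφ in
theorem isIso_specMap_φ : IsIso (Spec.map (CommRingCat.ofHom φ)) := by
  let e := RingEquiv.ofBijective φ ⟨injective_φ U W φ hφ H ψ hψ hψφ, surjective_φ U W φ hφ H ψ hψ hψφ⟩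
  have : IsIso (CommRingCat.ofHom φ) := (e.toCommRingCatIso).isIso_hom
  infer_instance

end GrothLib.MagnetAff
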