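import Groth.Agent.Lib.MagnetAff25.Local
import Mathlib.AlgebraicGeometry.ResidueField

/-! # An equivariant map which is an isomorphism on fixed loci and étale near them is an isomorphism -/

set_option autoImplicit false
set_option backward.isDefEq.respectTransparency false
set_option backward.isDefEq.respectTransparency.types false

universe u

open CategoryTheory MonoidalCategory CartesianMonoidalCategory AlgebraicGeometry Opposite

noncomputable section

namespace GrothLib.MagnetAff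

open Magnet MagnetPts

variable {S : Scheme.{u}} {X Y : Over S}

theorem exists_field_pt (Z : Scheme.{u}) (x : Z) :
    ∃ (K : Type u) (_ : Field K) (xb : Spec (CommRingCat.of K) ⟶ Z) (w : PrimeSpectrum K), xb.base w = x :=
  ⟨Z.residueField x, inferInstance, Z.fromSpecResidueField x, default,
    Scheme.fromSpecResidueField_apply x _⟩

variable {a : MonAct (AMonS S ℕ) X} {b : MonAct (AMonS S ℕ) Y} {f : X ⟶ Y}

theorem Chart.exists_pt (U : Chart a) {R : Type u} [CommRing R] (x : Spec (CommRingCat.of R) ⟶ X.left)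
    (h : Set.range x.base ⊆ Set.range U.inc.base) :
    ∃ φ : U.A →+* R, Spec.map (CommRingCat.ofHom φ) ≫ U.inc = x := by
  obtain ⟨φ, hφ⟩ := Spec.map_surjective (IsOpenImmersion.lift U.inc x h)
  exact ⟨φ.hom, by rw [CommRingCat.ofHom_hom, hφ, IsOpenImmersion.lift_fac]⟩

theorem range_subset_of_mem {K : Type u} [Field K] {Z : Scheme.{u}} (x : Spec (CommRingCat.of K) ⟶ Z)
    (w : PrimeSpectrum K) {s : Set Z} (h : x.base w ∈ s) : Set.range x.base ⊆ s := by
  rintro _ ⟨v, rfl⟩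
  have : v = w := Subsingleton.elim (α := PrimeSpectrum K) _ _
  rwa [this]

variable {V : X.left.Opens} [Etale (V.ι ≫ f.left)]

theorem exists_isPullback_chart (hX : ∀ x : X.left, ∃ U : Chart a, x ∈ Set.range U.inc.base)
    (hY : ∀ y : Y.left, ∃ W : Chart b, y ∈ Set.range W.inc.base) (H : FixedIso a b f V) (y : Y.left) :
    ∃ (U : Chart a) (W : Chart b) (φ : W.A →+* U.A),
      y ∈ Set.range W.inc.base ∧ U.inc ≫ f.left = Spec.map (CommRingCat.ofHom φ) ≫ W.inc ∧
      f.left.base ⁻¹' Set.range W.inc.base = Set.range U.inc.base ∧ IsIso (Spec.map (CommRingCat.ofHom φ)) := by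
  obtain ⟨W, p₀, hp₀⟩ := hY y
  let q : PrimeSpectrum W.A := PrimeSpectrum.comap W.π₀ p₀
  have hη : IsFix b (Spec.map (CommRingCat.ofHom W.π₀) ≫ W.inc) := (W.isFix_pt_iff _).2 W.π₀_comp_π₀
  obtain ⟨xt, hxt, hxtf⟩ := H.surj _ hη
  have hxtπ : Spec.map (CommRingCat.ofHom W.π₀) ≫ xt = xt := by
    refine H.inj _ _ (hxt.comp a _) hxt ?_
    rw [Category.assoc, hxtf, Chart.specMap_comp, W.π₀_comp_π₀]
  have hxtq : ∀ p : PrimeSpectrum W.A, xt.base (PrimeSpectrum.comap W.π₀ p) = xt.base p := fun p => by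
    conv_rhs => rw [← hxtπ]
    rfl
  obtain ⟨U, r, hr⟩ := hX (xt.base q)
  have hxtfq : f.left.base (xt.base q) = W.inc.base (PrimeSpectrum.comap W.π₀ q) :=
    congrArg (fun g : Spec (CommRingCat.of W.A) ⟶ Y.left => g.base q) hxtf
  have hqq : PrimeSpectrum.comap W.π₀ q = q := PrimeSpectrum.ext (by
    change (p₀.asIdeal.comap W.π₀).comap W.π₀ = p₀.asIdeal.comap W.π₀
    rw [Ideal.comap_comap, W.π₀_comp_π₀])
  have hrr : PrimeSpectrum.comap U.π₀ r = r := by
    let K := FractionRing (W.A ⧸ q.asIdeal)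
    let κ : W.A →+* K := (algebraMap _ K).comp (Ideal.Quotient.mk q.asIdeal)
    have hκ : ∀ w : PrimeSpectrum K, PrimeSpectrum.comap κ w = q := fun w => PrimeSpectrum.ext (by
      change w.asIdeal.comap κ = q.asIdeal
      rw [Ideal.eq_bot_of_prime w.asIdeal]
      ext z
      rw [Ideal.mem_comap, Ideal.mem_bot]
      change algebraMap _ K (Ideal.Quotient.mk q.asIdeal z) = 0 ↔ _
      rw [IsFractionRing.to_map_eq_zero_iff, Ideal.Quotient.eq_zero_iff_mem])
    obtain ⟨w⟩ : Nonempty (PrimeSpectrum K) := inferInstance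
    have hw : (Spec.map (CommRingCat.ofHom κ) ≫ xt).base w = U.inc.base r := by
      rw [hr]
      exact congrArg xt.base (hκ w)
    obtain ⟨θ, hθ⟩ := U.exists_pt (Spec.map (CommRingCat.ofHom κ) ≫ xt) (range_subset_of_mem _ w (hw ▸ ⟨r, rfl⟩))
    have hθ' : θ.comp U.π₀ = θ := (U.isFix_pt_iff θ).1 (hθ ▸ hxt.comp a κ)
    have : r = PrimeSpectrum.comap θ w := by
      apply U.inc.isOpenEmbedding.injective
      rw [← hw, ← hθ]
      rfl
    rw [this]
    apply PrimeSpectrum.ext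
    change (w.asIdeal.comap θ).comap U.π₀ = w.asIdeal.comap θ
    rw [Ideal.comap_comap, hθ']
  let O : Set (PrimeSpectrum U.A) := U.inc.base ⁻¹' (f.left.base ⁻¹' Set.range W.inc.base)
  have hO : IsOpen O :=
    (W.inc.isOpenEmbedding.isOpen_range.preimage f.left.continuous).preimage U.inc.continuous
  have hrO : r ∈ O := by
    change f.left.base (U.inc.base r) ∈ Set.range W.inc.base
    rw [hr, hxtfq]
    exact ⟨_, rfl⟩
  obtain ⟨_, ⟨_, ⟨h', rfl⟩, rfl⟩, hrh, hhO⟩ := PrimeSpectrum.isBasis_basic_opens.exists_subset_of_mem_open hrO hO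
  let h := U.π₀ h'
  let U₁ := U.away h (U.π₀_π₀ h')
  have hU₁ : Set.range (U₁.inc ≫ f.left).base ⊆ Set.range W.inc.base := by
    rintro _ ⟨p₁, rfl⟩
    obtain ⟨p, hp, hpe⟩ : U₁.inc.base p₁ ∈ U.inc.base '' (PrimeSpectrum.basicOpen h : Set (PrimeSpectrum U.A)) :=
      (U.range_away h (U.π₀_π₀ h')) ▸ ⟨p₁, rfl⟩
    change f.left.base (U₁.inc.base p₁) ∈ _
    rw [← hpe]
    let K := FractionRing (U.A ⧸ p.asIdeal)
    let κ : U.A →+* K := (algebraMap _ K).comp (Ideal.Quotient.mk p.asIdeal)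
    obtain ⟨w⟩ : Nonempty (PrimeSpectrum K) := inferInstance
    have hκ : PrimeSpectrum.comap κ w = p := PrimeSpectrum.ext (by
      change w.asIdeal.comap κ = p.asIdeal
      rw [Ideal.eq_bot_of_prime w.asIdeal]
      ext z
      rw [Ideal.mem_comap, Ideal.mem_bot]
      change algebraMap _ K (Ideal.Quotient.mk p.asIdeal z) = 0 ↔ _
      rw [IsFractionRing.to_map_eq_zero_iff, Ideal.Quotient.eq_zero_iff_mem])
    have key : (orb b ((Spec.map (CommRingCat.ofHom κ) ≫ U.inc) ≫ f.left) 0).base w ∈ Set.range W.inc.base := by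
      rw [← orb_comp_equivariant a H.equivariant, U.orb_pt_zero]
      change PrimeSpectrum.comap (κ.comp U.π₀) w ∈ O
      refine hhO ?_
      rw [PrimeSpectrum.comap_comp_apply, hκ]
      exact hp
    have := W.mem_range_of_orb_zero _ w key
    rw [← hκ]
    exact this
  obtain ⟨φ₁, hφ₁⟩ := W.exists_pt _ hU₁
  let O' : Set (PrimeSpectrum W.A) := xt.base ⁻¹' Set.range U₁.inc.base
  have hO' : IsOpen O' := U₁.inc.isOpenEmbedding.isOpen_range.preimage xt.continuous
  have hqO : q ∈ O' := by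
    change xt.base q ∈ Set.range U₁.inc.base
    rw [U.range_away, ← hr]
    refine ⟨r, ?_, rfl⟩
    change U.π₀ h' ∉ r.asIdeal
    rw [← hrr] at hrh
    exact hrh
  obtain ⟨_, ⟨_, ⟨g', rfl⟩, rfl⟩, hqg, hgO⟩ := PrimeSpectrum.isBasis_basic_opens.exists_subset_of_mem_open hqO hO'
  let g := W.π₀ g'
  let W₁ := W.away g (W.π₀_π₀ g')
  have hφg : U₁.π₀ (φ₁ g) = φ₁ g := by rw [π₀_comm U₁ W φ₁ hφ₁.symm H.equivariant, W.π₀_π₀]
  let U₂ := U₁.away (φ₁ g) hφg
  let lW : W.A →+* Localization.Away g := algebraMap _ _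
  let lU : U₁.A →+* Localization.Away (φ₁ g) := algebraMap _ _
  let φ₂ : Localization.Away g →+* Localization.Away (φ₁ g) := IsLocalization.Away.lift (S := Localization.Away g) g (g := lU.comp φ₁)
    (IsLocalization.Away.algebraMap_isUnit (S := Localization.Away (φ₁ g)) (φ₁ g))
  have hφ₂l : φ₂.comp lW = lU.comp φ₁ := IsLocalization.Away.lift_comp _ _
  have hφ₂ : U₂.inc ≫ f.left = Spec.map (CommRingCat.ofHom φ₂) ≫ W₁.inc := by
    change (Spec.map (CommRingCat.ofHom lU) ≫ U₁.inc) ≫ f.left =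
      Spec.map (CommRingCat.ofHom φ₂) ≫ Spec.map (CommRingCat.ofHom lW) ≫ W.inc
    rw [Category.assoc, ← hφ₁, Chart.specMap_comp, Chart.specMap_comp]
    exact congrArg (fun z => Spec.map (CommRingCat.ofHom z) ≫ W.inc) hφ₂l.symm
  have hy₁ : y ∈ Set.range W₁.inc.base := by
    rw [W.range_away, ← hp₀]
    exact ⟨p₀, hqg, rfl⟩
  have hxt₁ : Set.range (Spec.map (CommRingCat.ofHom lW) ≫ xt).base ⊆ Set.range U₁.inc.base := by
    rintro _ ⟨z, rfl⟩
    have hz : Spec.map (CommRingCat.ofHom lW) z ∈ Set.range (PrimeSpectrum.comap lW) := ⟨z, rfl⟩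
    rw [PrimeSpectrum.localization_away_comap_range (Localization.Away g) g] at hz
    change xt.base (PrimeSpectrum.comap lW z) ∈ _
    rw [← hxtq]
    exact hgO hz
  obtain ⟨ψ₁, hψ₁⟩ := U₁.exists_pt _ hxt₁
  have hψ₁π : ψ₁.comp U₁.π₀ = ψ₁ := (U₁.isFix_pt_iff ψ₁).1 (hψ₁ ▸ hxt.comp a lW)
  have hψ₁φ : ψ₁.comp φ₁ = lW.comp W.π₀ := by
    apply Chart.specMap_inj W.inc
    rw [← Chart.specMap_comp, hφ₁, reassoc_of% hψ₁, hxtf, Chart.specMap_comp]
  let ψ₂ : Localization.Away (φ₁ g) →+* Localization.Away g := IsLocalization.Away.lift (S := Localization.Away (φ₁ g)) (φ₁ g) (g := ψ₁) (by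
    have := RingHom.congr_fun hψ₁φ g
    rw [RingHom.comp_apply, RingHom.comp_apply, W.π₀_π₀] at this
    exact (congrArg IsUnit this).mpr (IsLocalization.Away.algebraMap_isUnit (S := Localization.Away g) g))
  have hψ₂l : ψ₂.comp lU = ψ₁ := IsLocalization.Away.lift_comp _ _
  have hψ₂π : ψ₂.comp U₂.π₀ = ψ₂ := by
    refine IsLocalization.ringHom_ext (S := Localization.Away (φ₁ g)) (Submonoid.powers (φ₁ g)) (RingHom.ext fun z => ?_)
    change ψ₂ (U₂.π₀ (lU z)) = ψ₂ (lU z)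
    rw [U₁.away_π₀_algebraMap]
    exact (RingHom.congr_fun hψ₂l _).trans ((RingHom.congr_fun hψ₁π z).trans (RingHom.congr_fun hψ₂l z).symm)
  have hψ₂φ : ψ₂.comp φ₂ = W₁.π₀ := by
    refine IsLocalization.ringHom_ext (S := Localization.Away g) (Submonoid.powers g) (RingHom.ext fun z => ?_)
    change ψ₂ (φ₂ (lW z)) = W₁.π₀ (lW z)
    rw [W.away_π₀_algebraMap]
    exact ((congrArg ψ₂ (RingHom.congr_fun hφ₂l z)).trans (RingHom.congr_fun hψ₂l _)).trans (RingHom.congr_fun hψ₁φ z)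
  refine ⟨U₂, W₁, φ₂, hy₁, hφ₂, ?_, isIso_specMap_φ U₂ W₁ φ₂ hφ₂ H ψ₂ hψ₂π hψ₂φ⟩
  refine Set.Subset.antisymm (fun x hx => ?_) ?_
  · obtain ⟨K, _, xb, w, hw⟩ := exists_field_pt X.left x
    obtain ⟨β, hβ⟩ := W₁.exists_pt (xb ≫ f.left) (range_subset_of_mem _ w (by
      change f.left.base (xb.base w) ∈ _
      rw [hw]
      exact hx))
    have h0 : orb a xb 0 = Spec.map (CommRingCat.ofHom ((β.comp W₁.π₀).comp ψ₂)) ≫ U₂.inc := by
      refine H.inj _ _ (isFix_orb_zero a xb) ((U₂.isFix_pt_iff _).2 (by rw [RingHom.comp_assoc, hψ₂π])) ?_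
      rw [orb_comp_equivariant a H.equivariant, ← hβ, W₁.orb_pt_zero, Category.assoc, hφ₂, Chart.specMap_comp]
      have e : ((β.comp W₁.π₀).comp ψ₂).comp φ₂ = β.comp W₁.π₀ := RingHom.ext fun z =>
        (congrArg (fun v => β (W₁.π₀ v)) (RingHom.congr_fun hψ₂φ z)).trans (congrArg β (W₁.π₀_π₀ z))
      exact congrArg (fun v => Spec.map (CommRingCat.ofHom v) ≫ W₁.inc) e.symm
    rw [← hw]
    refine U₂.mem_range_of_orb_zero xb w ?_
    rw [h0]
    exact ⟨_, rfl⟩
  · rintro _ ⟨z, rfl⟩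
    exact ⟨Spec.map (CommRingCat.ofHom φ₂) z, (congrArg (fun g : Spec (CommRingCat.of U₂.A) ⟶ Y.left => g.base z) hφ₂).symm⟩

theorem isIso_of_fixedIso (hX : ∀ x : X.left, ∃ U : Chart a, x ∈ Set.range U.inc.base)
    (hY : ∀ y : Y.left, ∃ W : Chart b, y ∈ Set.range W.inc.base) (H : FixedIso a b f V) : IsIso f := by
  choose U W φ hy hφ hpre hiso using exists_isPullback_chart hX hY H
  have : IsIso f.left := by
    let 𝒲 : Y.left.OpenCover := Scheme.Cover.mkOfCovers Y.left (fun y => Spec (CommRingCat.of (W y).A))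
      (fun y => (W y).inc) (fun y => ⟨y, hy y⟩) (fun y => (W y).isOpen)
    refine IsZariskiLocalAtTarget.of_openCover (P := MorphismProperty.isomorphisms Scheme.{u}) 𝒲 (fun y => ?_)
    have hpb : IsPullback (U y).inc (Spec.map (CommRingCat.ofHom (φ y))) f.left (W y).inc := by
      exact (IsOpenImmersion.isPullback (Spec.map (CommRingCat.ofHom (φ y))) (U y).inc (W y).inc f.left (hφ y)
        (TopologicalSpace.Opens.ext (hpre y))).flip
    change IsIso (Limits.pullback.snd f.left (W y).inc)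
    rw [← hpb.isoPullback_inv_snd]
    have := hiso y
    infer_instance
  have : IsIso ((Over.forget S).map f) := ‹IsIso f.left›
  exact isIso_of_reflects_iso f (Over.forget S)

end GrothLib.MagnetAff
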