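import Groth.Agent.Lib.MagnetPts25.Basic
import Groth.Prelude.Def_Magnet3
import Mathlib.Algebra.Polynomial.Eval.Coeff
import Mathlib.AlgebraicGeometry.Cover.Open

/-! # Orbits of actions of the multiplicative affine line, on affine points -/

set_option autoImplicit false
set_option backward.isDefEq.respectTransparency false
set_option backward.isDefEq.respectTransparency.types false

universe u

open CategoryTheory MonoidalCategory CartesianMonoidalCategory MonObj AlgebraicGeometry Opposite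

noncomputable section

namespace GrothLib.MagnetAff

open Magnet MagnetPts

variable {C : Type u} [CommRing C]

/-- The character of `ℕ` attached to an element. -/
def chN (c : C) : Multiplicative ℕ →* C where
  toFun n := c ^ n.toAdd
  map_one' := pow_zero c
  map_mul' m n := pow_add c _ _

theorem chN_ext (χ : Multiplicative ℕ →* C) : χ = chN (χ (Multiplicative.ofAdd 1)) := by
  refine MonoidHom.ext fun n => ?_
  change χ n = χ (Multiplicative.ofAdd 1) ^ n.toAdd
  rw [← map_pow, ← ofAdd_nsmul]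
  simp

theorem chN_mul (c d : C) : chN c * chN d = chN (c * d) :=
  MonoidHom.ext fun n => (mul_pow c d n.toAdd).symm

theorem chN_one : chN (1 : C) = 1 := MonoidHom.ext fun _ => one_pow _

theorem comp_chN {D : Type u} [CommRing D] (h : C →+* D) (c : C) : (h : C →* D).comp (chN c) = chN (h c) :=
  MonoidHom.ext fun n => map_pow h c n.toAdd

variable {S : Scheme.{u}} {X Y : Over S} (a : MonAct (AMonS S ℕ) X)

/-- The point `c • x`. -/
def orb {E : Type u} [CommRing E] (x : Spec (CommRingCat.of E) ⟶ X.left) (c : E) :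
    Spec (CommRingCat.of E) ⟶ X.left :=
  (lift (amsPoint ℕ (x ≫ X.hom) (chN c)) (Over.homMk x rfl : Over.mk (x ≫ X.hom) ⟶ X) ≫ a.act).left

theorem orb_eq {E : Type u} [CommRing E] {p : Spec (CommRingCat.of E) ⟶ S} (x : Over.mk p ⟶ X) (c : E) :
    orb a x.left c = (lift (amsPoint ℕ p (chN c)) x ≫ a.act).left := by
  have key : ∀ (xl : Spec (CommRingCat.of E) ⟶ X.left) (h : xl ≫ X.hom = p),
      orb a xl c = (lift (amsPoint ℕ p (chN c)) (Over.homMk xl h : Over.mk p ⟶ X) ≫ a.act).left := by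
    rintro xl rfl
    rfl
  exact key x.left (Over.w x)

theorem orb_hom {E : Type u} [CommRing E] (x : Spec (CommRingCat.of E) ⟶ X.left) (c : E) :
    orb a x c ≫ X.hom = x ≫ X.hom :=
  Over.w (lift (amsPoint ℕ (x ≫ X.hom) (chN c)) (Over.homMk x rfl : Over.mk (x ≫ X.hom) ⟶ X) ≫ a.act)

theorem orb_one {E : Type u} [CommRing E] (x : Spec (CommRingCat.of E) ⟶ X.left) : orb a x 1 = x := by
  have h1 := (amsPoint ℕ (x ≫ X.hom)).map_one
  rw [orb, chN_one]
  erw [h1]
  rw [MonAct.lift_one_act]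
  rfl

theorem orb_orb {E : Type u} [CommRing E] (x : Spec (CommRingCat.of E) ⟶ X.left) (c d : E) :
    orb a (orb a x d) c = orb a x (c * d) := by
  change orb a (lift (amsPoint ℕ (x ≫ X.hom) (chN d)) (Over.homMk x rfl : Over.mk (x ≫ X.hom) ⟶ X) ≫ a.act).left c = _
  rw [orb_eq a (lift (amsPoint ℕ (x ≫ X.hom) (chN d)) (Over.homMk x rfl : Over.mk (x ≫ X.hom) ⟶ X) ≫ a.act) c,
    ← MonAct.lift_mul_act, ← map_mul, chN_mul]
  rfl

theorem comp_orb {E E' : Type u} [CommRing E] [CommRing E'] (x : Spec (CommRingCat.of E) ⟶ X.left) (c : E)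
    (φ : E →+* E') :
    Spec.map (CommRingCat.ofHom φ) ≫ orb a x c = orb a (Spec.map (CommRingCat.ofHom φ) ≫ x) (φ c) := by
  let v : Over.mk ((Spec.map (CommRingCat.ofHom φ) ≫ x) ≫ X.hom) ⟶ Over.mk (x ≫ X.hom) :=
    Over.homMk (Spec.map (CommRingCat.ofHom φ)) (Category.assoc _ _ _).symm
  change (v ≫ lift (amsPoint ℕ (x ≫ X.hom) (chN c)) (Over.homMk x rfl : Over.mk (x ≫ X.hom) ⟶ X) ≫ a.act).left = _
  rw [comp_lift_assoc, amsPoint_comp, comp_chN]
  rfl

theorem orb_comp_equivariant {b : MonAct (AMonS S ℕ) Y} {f : X ⟶ Y} (hf : MonAct.IsEquivariant a b f)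
    {E : Type u} [CommRing E] (x : Spec (CommRingCat.of E) ⟶ X.left) (c : E) :
    orb a x c ≫ f.left = orb b (x ≫ f.left) c := by
  have h := (MonAct.isEquivariant_iff _ _ _).1 hf _ (amsPoint ℕ (x ≫ X.hom) (chN c))
    (Over.homMk x rfl : Over.mk (x ≫ X.hom) ⟶ X)
  refine Eq.trans ?_ (orb_eq b ((Over.homMk x rfl : Over.mk (x ≫ X.hom) ⟶ X) ≫ f) c).symm
  rw [← h]
  simp [orb]

/-- An affine point is fixed when scaling by `0` does not move it. -/
def IsFix {E : Type u} [CommRing E] (x : Spec (CommRingCat.of E) ⟶ X.left) : Prop := orb a x 0 = x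

theorem isFix_orb_zero {E : Type u} [CommRing E] (x : Spec (CommRingCat.of E) ⟶ X.left) : IsFix a (orb a x 0) := by
  rw [IsFix, orb_orb, mul_zero]

theorem IsFix.comp {E E' : Type u} [CommRing E] [CommRing E'] {x : Spec (CommRingCat.of E) ⟶ X.left} (h : IsFix a x)
    (φ : E →+* E') : IsFix a (Spec.map (CommRingCat.ofHom φ) ≫ x) := by
  rw [IsFix, ← map_zero φ, ← comp_orb, h]

theorem mem_fixedPsh_iff {E : Type u} [CommRing E] {p : Spec (CommRingCat.of E) ⟶ S} (x : Over.mk p ⟶ X) :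
    (∀ (T' : Over S) (t : T' ⟶ Over.mk p) (g : T' ⟶ AMonS S ℕ), lift g (t ≫ x) ≫ a.act = t ≫ x) ↔
      IsFix a x.left := by
  constructor
  · intro h
    have := h _ (𝟙 _) (amsPoint ℕ p (chN 0))
    rw [Category.id_comp] at this
    rw [IsFix, orb_eq, this]
  · intro h T' t g
    apply Over.OverMorphism.ext
    refine Scheme.Cover.hom_ext T'.left.affineCover _ _ fun i => ?_
    obtain ⟨φ, hφ⟩ := Spec.map_surjective (T'.left.affineCover.f i ≫ t.left :)
    let v : Over.mk (T'.left.affineCover.f i ≫ T'.hom) ⟶ T' := Over.homMk (T'.left.affineCover.f i) rfl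
    change (v ≫ lift g (t ≫ x) ≫ a.act).left = (v ≫ t ≫ x).left
    rw [comp_lift_assoc]
    obtain ⟨χ, hχ⟩ := (amsPoint ℕ (T'.left.affineCover.f i ≫ T'.hom)).surjective (v ≫ g)
    rw [← hχ, chN_ext χ, ← orb_eq]
    have hfix : IsFix a (v ≫ t ≫ x).left := by
      change IsFix a (T'.left.affineCover.f i ≫ t.left ≫ x.left)
      rw [← Category.assoc, ← hφ]
      exact h.comp a φ.hom
    rw [← hfix, orb_orb, mul_zero]

end GrothLib.MagnetAff
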